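import Cfsg.Agent.Lib.Helper35.RuPOrd.U1.Check
import Cfsg.Agent.Lib.Helper35.RuPOrd.U2.Check
import Cfsg.Agent.Lib.Helper35.RuPOrd.U3.Check
import Cfsg.Agent.Lib.Helper35.RuPOrd.U4.Check
import Cfsg.Agent.Lib.Helper35.RuPOrd.U5.Check
import Cfsg.Agent.Lib.Helper35.RuPOrd.Y0.Check
import Cfsg.Agent.Lib.Helper35.RuPOrd.X0.Fin
import Cfsg.Agent.Lib.Helper35.RuP4060.Check
import Cfsg.Agent.Lib.Helper35.Simple4

namespace Cfsg.Agent.Lib.Helper35.RuPOrd

open Cfsg.Agent.Lib.Helper35 Cfsg.Spor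

set_option maxRecDepth 100000

noncomputable def I : PresIface RuP := coxIface RuP.edges RuP.extra PresRuP.cc PresRuP.extraL PresRuP.R PresRuP.allGens PresRuP.hall PresRuP.hOK PresRuP.hextra
theorem up6 : Finite (wsub I.val ([] : List (List Nat))) ∧ Nat.card (wsub I.val ([] : List (List Nat))) ≤ 1 := upper_nil I.val
theorem up5 : Finite (wsub I.val [[1]]) ∧ Nat.card (wsub I.val [[1]]) ≤ 2 :=
  upper_cons 2 1 2 up6 (fun hf => card_upper_step I.val I.inv I.hinv [[1]] ([] : List (List Nat)) U5.invL U5.R U5.S 2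
    (by decide +kernel) (by decide +kernel)
    (fun b hb => I.hR _ ((by decide +kernel : ∀ b ∈ U5.R, expand [[1]] b ∈ PresRuP.R) b hb))
    (by decide +kernel) U5.certData hf) (by decide +kernel)
theorem up4 : Finite (wsub I.val [[0], [1]]) ∧ Nat.card (wsub I.val [[0], [1]]) ≤ 10 :=
  upper_cons 5 2 10 up5 (fun hf => card_upper_step I.val I.inv I.hinv [[0], [1]] [[1]] U4.invL U4.R U4.S 5
    (by decide +kernel) (by decide +kernel)
    (fun b hb => I.hR _ ((by decide +kernel : ∀ b ∈ U4.R, expand [[0], [1]] b ∈ PresRuP.R) b hb))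
    (by decide +kernel) U4.certData hf) (by decide +kernel)
theorem up3 : Finite (wsub I.val [[0], [1], [2], [3], [4]]) ∧ Nat.card (wsub I.val [[0], [1], [2], [3], [4]]) ≤ 10240 :=
  upper_cons 1024 10 10240 up4 (fun hf => card_upper_step I.val I.inv I.hinv [[0], [1], [2], [3], [4]] [[0], [1]] U3.invL U3.R U3.S 1024
    (by decide +kernel) (by decide +kernel)
    (fun b hb => I.hR _ ((by decide +kernel : ∀ b ∈ U3.R, expand [[0], [1], [2], [3], [4]] b ∈ PresRuP.R) b hb))
    (by decide +kernel) U3.certData hf) (by decide +kernel)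
theorem up2 : Finite (wsub I.val [[0], [1], [2], [3], [4], [5]]) ∧ Nat.card (wsub I.val [[0], [1], [2], [3], [4], [5]]) ≤ 17971200 :=
  upper_cons 1755 10240 17971200 up3 (fun hf => card_upper_step I.val I.inv I.hinv [[0], [1], [2], [3], [4], [5]] [[0], [1], [2], [3], [4]] U2.invL U2.R U2.S 1755
    (by decide +kernel) (by decide +kernel)
    (fun b hb => I.hR _ ((by decide +kernel : ∀ b ∈ U2.R, expand [[0], [1], [2], [3], [4], [5]] b ∈ PresRuP.R) b hb))
    (by decide +kernel) U2.certData hf) (by decide +kernel)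
theorem up1 : Finite (wsub I.val [[0], [1], [2], [3], [4], [5], [6], [7]]) ∧ Nat.card (wsub I.val [[0], [1], [2], [3], [4], [5], [6], [7]]) ≤ 35942400 :=
  upper_cons 2 17971200 35942400 up2 (fun hf => card_upper_step I.val I.inv I.hinv [[0], [1], [2], [3], [4], [5], [6], [7]] [[0], [1], [2], [3], [4], [5]] U1.invL U1.R U1.S 2
    (by decide +kernel) (by decide +kernel)
    (fun b hb => I.hR _ ((by decide +kernel : ∀ b ∈ U1.R, expand [[0], [1], [2], [3], [4], [5], [6], [7]] b ∈ PresRuP.R) b hb))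
    (by decide +kernel) U1.certData hf) (by decide +kernel)
theorem up1' : Finite (wsub I.val [[0], [1], [2], [4], [5], [6]]) ∧ Nat.card (wsub I.val [[0], [1], [2], [4], [5], [6]]) ≤ 35942400 := by
  have hle := wsub_mono I.val [[0], [1], [2], [3], [4], [5], [6], [7]] [[0], [1], [2], [4], [5], [6]] (by decide +kernel)
  haveI := up1.1
  exact ⟨Finite.of_injective (Subgroup.inclusion hle) (Subgroup.inclusion_injective hle),
    le_trans (Subgroup.card_le_of_le hle) up1.2⟩
theorem up0 : Finite (wsub I.val [[0], [1], [2], [3], [4], [5], [6], [7], [8]]) ∧ Nat.card (wsub I.val [[0], [1], [2], [3], [4], [5], [6], [7], [8]]) ≤ 145926144000 :=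
  upper_cons 4060 35942400 145926144000 up1' (fun hf => card_upper_step I.val I.inv I.hinv [[0], [1], [2], [3], [4], [5], [6], [7], [8]] [[0], [1], [2], [4], [5], [6]] PresRuP.cc.invL PresRuP.R RuP4060.S 4060
    (by decide +kernel) (by decide +kernel)
    (fun b hb => I.hR _ ((by decide +kernel : ∀ b ∈ PresRuP.R, expand [[0], [1], [2], [3], [4], [5], [6], [7], [8]] b ∈ PresRuP.R) b hb))
    (by decide +kernel) RuP4060.certData hf) (by decide +kernel)
noncomputable abbrev pv2 := RuP4060.permData.pv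
theorem lo4 : 1 ≤ Nat.card (wsub pv2 ([] : List (List Nat))) := lower_nil pv2
theorem lo3 : 20 ≤ Nat.card (wsub pv2 [[0], [1], [6], [7]]) :=
  lower_cons 20 1 20 lo4 (card_lower_step pv2 [[0], [1], [6], [7]] ([] : List (List Nat)) (by decide +kernel) 4059 (MonoidHom.id _) RuP4060.pt
    (fun s hs i => walk_of_hom pv2 RuP4060.permData (MonoidHom.id _) (fun _ => rfl) s ((by decide +kernel : ∀ s ∈ ([[0], [1], [6], [7]] : List (List Nat)), ∀ c ∈ s, c < PresRuP.cc.C) s hs) i)
    3386 20 (by decide +kernel) X0.reach3 X0.fix3) (by decide +kernel)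
theorem lo2 : 20480 ≤ Nat.card (wsub pv2 [[0], [1], [2], [3], [4], [6], [7]]) :=
  lower_cons 1024 20 20480 lo3 (card_lower_step pv2 [[0], [1], [2], [3], [4], [6], [7]] [[0], [1], [6], [7]] (by decide +kernel) 4059 (MonoidHom.id _) RuP4060.pt
    (fun s hs i => walk_of_hom pv2 RuP4060.permData (MonoidHom.id _) (fun _ => rfl) s ((by decide +kernel : ∀ s ∈ ([[0], [1], [2], [3], [4], [6], [7]] : List (List Nat)), ∀ c ∈ s, c < PresRuP.cc.C) s hs) i)
    1112 1024 (by decide +kernel) X0.reach2 X0.fix2) (by decide +kernel)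
theorem lo1 : 35942400 ≤ Nat.card (wsub pv2 [[0], [1], [2], [3], [4], [5], [6], [7]]) :=
  lower_cons 1755 20480 35942400 lo2 (card_lower_step pv2 [[0], [1], [2], [3], [4], [5], [6], [7]] [[0], [1], [2], [3], [4], [6], [7]] (by decide +kernel) 4059 (MonoidHom.id _) RuP4060.pt
    (fun s hs i => walk_of_hom pv2 RuP4060.permData (MonoidHom.id _) (fun _ => rfl) s ((by decide +kernel : ∀ s ∈ ([[0], [1], [2], [3], [4], [5], [6], [7]] : List (List Nat)), ∀ c ∈ s, c < PresRuP.cc.C) s hs) i)
    1 1755 (by decide +kernel) X0.reach1 X0.fix1) (by decide +kernel)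
theorem lo0 : 145926144000 ≤ Nat.card (wsub pv2 [[0], [1], [2], [3], [4], [5], [6], [7], [8]]) :=
  lower_cons 4060 35942400 145926144000 lo1 (card_lower_step pv2 [[0], [1], [2], [3], [4], [5], [6], [7], [8]] [[0], [1], [2], [3], [4], [5], [6], [7]] (by decide +kernel) 4059 (MonoidHom.id _) RuP4060.pt
    (fun s hs i => walk_of_hom pv2 RuP4060.permData (MonoidHom.id _) (fun _ => rfl) s ((by decide +kernel : ∀ s ∈ ([[0], [1], [2], [3], [4], [5], [6], [7], [8]] : List (List Nat)), ∀ c ∈ s, c < PresRuP.cc.C) s hs) i)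
    0 4060 (by decide +kernel) X0.reach0 X0.fix0) (by decide +kernel)
def cnt0 : Nat → Nat := fun k => ([1, 1755, 2304] : List Nat).getD k 0
noncomputable def prim0 : PrimData RuP4060.permData 145926144000 where
  O := RuP4060.orbData
  r := 3
  cnt := cnt0
  hcnt := by
    intro k hk
    interval_cases k
    exacts [RuP4060.ocnt0, RuP4060.ocnt1, RuP4060.ocnt2]
  hsum := by decide +kernel
  hnum := by decide +kernel
  p := 29
  hp := by norm_num
  yw := Y0.yw
  hyC := by decide +kernel
  hnd := by decide +kernel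
  col := Y0.certData
theorem main : IsSimpleGroup RuP ∧ Nat.card RuP = 145926144000 :=
  simple_of_one I RuP4060.permData 145926144000 (by decide +kernel) up0 lo0 prim0 X0.yfix0

end Cfsg.Agent.Lib.Helper35.RuPOrd
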